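import Cfsg.Agent.H477.HC.Groups

/-!
# Isometries of prime order `r`, `r` a primitive divisor of `q^(2m) - 1`, in dimension `2m` (helper234)

`invar` : irreducibility; `exists_poly` : the centralizer consists of polynomials; `cent_pow` : an isometry `g` commuting
with such an `x` satisfies `g ^ (q^m + 1) = 1`; `cent_neg` : an involution commuting with `x` is `-1`.
-/

set_option autoImplicit false
set_option linter.unusedSectionVars false

open Cfsg

namespace Cfsg.Agent.H234.Eight.Singer

open Module Polynomial Cfsg.Agent.H477.HC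

universe u v

section lin

variable {K : Type u} [Field K] [Finite K] {V : Type v} [AddCommGroup V] [Module K V] [FiniteDimensional K V]

/-- fixed points -/
theorem fix_mod {r : ℕ} (hr : r.Prime) {T : Module.End K V} (hT : T ^ r = 1) {W : Submodule K V}
    (hW : ∀ w ∈ W, T w ∈ W) :
    Nat.card K ^ finrank K W ≡ Nat.card K ^ finrank K (W ⊓ LinearMap.ker (T - 1) : Submodule K V) [MOD r] := by
  classical
  have hV : Finite V := Module.finite_of_finite K
  have : Fact r.Prime := ⟨hr⟩
  let _ := Fintype.ofFinite W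
  let f : Function.End W := fun w => ⟨T w, hW _ w.2⟩
  have hf : ∀ n : ℕ, ∀ w : W, (((f ^ n : Function.End W) w : W) : V) = (T ^ n) w := by
    intro n
    induction n with
    | zero => intro w; rfl
    | succ n ih =>
      intro w
      rw [pow_succ, pow_succ]
      exact ih (f w)
  have hfr : f ^ r ^ 1 = 1 := by
    rw [pow_one]
    funext w
    apply Subtype.ext
    rw [hf, hT]
    rfl
  have h1 := Equiv.Perm.card_fixedPoints_modEq hfr
  rw [← Nat.card_eq_fintype_card, ← Nat.card_eq_fintype_card, Module.natCard_eq_pow_finrank (K := K) (V := W)] at h1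
  have h2 : Nat.card (Function.fixedPoints f) = Nat.card (W ⊓ LinearMap.ker (T - 1) : Submodule K V) := by
    refine Nat.card_congr
      { toFun := fun w => ⟨w.1, w.1.2, ?_⟩
        invFun := fun w => ⟨⟨w.1, w.2.1⟩, ?_⟩
        left_inv := fun w => rfl
        right_inv := fun w => rfl }
    · have h3 : f w.1 = w.1 := w.2
      have h4 : T (w.1 : V) = w.1 := congrArg Subtype.val h3
      change (w.1 : V) ∈ LinearMap.ker (T - 1)
      rw [LinearMap.mem_ker, LinearMap.sub_apply, h4]
      exact sub_self _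
    · have h3 := w.2.2
      change (w.1 : V) ∈ LinearMap.ker (T - 1) at h3
      rw [LinearMap.mem_ker, LinearMap.sub_apply, sub_eq_zero] at h3
      exact Subtype.ext h3
  rw [h2, Module.natCard_eq_pow_finrank (K := K) (V := (W ⊓ LinearMap.ker (T - 1) : Submodule K V))] at h1
  exact h1

theorem dvd_of_mod {q r c d : ℕ} (hr : r.Prime) (hq : 1 ≤ q) (hrq : ¬ r ∣ q) (hcd : c ≤ d) (h : q ^ d ≡ q ^ c [MOD r]) :
    r ∣ q ^ (d - c) - 1 := by
  have h1 : r ∣ q ^ d - q ^ c := (Nat.modEq_iff_dvd' (Nat.pow_le_pow_right hq hcd)).1 h.symm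
  have h2 : q ^ d - q ^ c = q ^ c * (q ^ (d - c) - 1) := by
    rw [Nat.mul_sub, ← pow_add, Nat.add_sub_cancel' hcd, mul_one]
  rw [h2] at h1
  exact (hr.dvd_mul.1 h1).resolve_left fun h => hrq (hr.dvd_of_dvd_pow h)

variable {r n : ℕ} (hr : r.Prime) (hrq : ¬ r ∣ Nat.card K) (hn : finrank K V = n)
  (hprim : ∀ i, 0 < i → i < n → ¬ r ∣ Nat.card K ^ i - 1) {T : Module.End K V} (hT : T ^ r = 1) (hT1 : T ≠ 1)

include hr hrq hn hprim hT hT1 in
/-- **irreducibility** -/
theorem invar {W : Submodule K V} (hW : ∀ w ∈ W, T w ∈ W) : W = ⊥ ∨ W = ⊤ := by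
  have hq : 1 ≤ Nat.card K := Nat.card_pos
  -- no fixed vectors
  have h0 : LinearMap.ker (T - 1) = ⊥ := by
    have h1 := fix_mod hr hT (W := ⊤) (fun _ _ => Submodule.mem_top)
    rw [finrank_top, hn, top_inf_eq] at h1
    have h2 : finrank K (LinearMap.ker (T - 1)) ≤ n := hn ▸ Submodule.finrank_le _
    have h3 := dvd_of_mod hr hq hrq h2 h1
    have h4 : finrank K (LinearMap.ker (T - 1)) = 0 ∨ finrank K (LinearMap.ker (T - 1)) = n := by
      by_contra hcon
      push Not at hcon
      exact hprim _ (by omega) (by omega) h3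
    rcases h4 with h4 | h4
    · exact Submodule.finrank_eq_zero.1 h4
    · exfalso
      apply hT1
      have h5 : LinearMap.ker (T - 1) = ⊤ := Submodule.eq_top_of_finrank_eq (h4.trans hn.symm)
      exact sub_eq_zero.1 (LinearMap.ker_eq_top.1 h5)
  have h1 := fix_mod hr hT hW
  rw [h0, inf_bot_eq, finrank_bot] at h1
  have h2 := dvd_of_mod hr hq hrq (Nat.zero_le _) h1
  rw [Nat.sub_zero] at h2
  have h3 : finrank K W ≤ n := hn ▸ Submodule.finrank_le _
  have h4 : finrank K W = 0 ∨ finrank K W = n := by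
    by_contra hcon
    push Not at hcon
    exact hprim _ (by omega) (by omega) h2
  rcases h4 with h4 | h4
  · exact Or.inl (Submodule.finrank_eq_zero.1 h4)
  · exact Or.inr (Submodule.eq_top_of_finrank_eq (h4.trans hn.symm))

include hr hrq hn hprim hT hT1 in
/-- a map commuting with `T` is zero or injective -/
theorem ker_cases {S : Module.End K V} (hS : S * T = T * S) : LinearMap.ker S = ⊥ ∨ S = 0 := by
  rcases invar hr hrq hn hprim hT hT1 (W := LinearMap.ker S) (fun w hw => by
    rw [LinearMap.mem_ker] at hw ⊢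
    change (S * T) w = 0
    rw [hS]
    change T (S w) = 0
    rw [hw, map_zero]) with h | h
  · exact Or.inl h
  · exact Or.inr (LinearMap.ker_eq_top.1 h)

include hr hrq hn hprim hT hT1 in
/-- **the centralizer** -/
theorem exists_poly {S : Module.End K V} (hS : S * T = T * S) : ∃ f : K[X], S = aeval T f := by
  have hVn : Nontrivial V := by
    by_contra h
    rw [not_nontrivial_iff_subsingleton] at h
    apply hT1
    ext v
    exact Subsingleton.elim _ _
  obtain ⟨v, hv⟩ := exists_ne (0 : V)
  let ev : K[X] →ₗ[K] V :=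
    { toFun := fun f => aeval T f v
      map_add' := fun f g => by rw [map_add]; rfl
      map_smul' := fun c f => by rw [map_smul]; rfl }
  have hev : ∀ f, ev f = aeval T f v := fun f => rfl
  have h1 : LinearMap.range ev = ⊤ := by
    refine (invar hr hrq hn hprim hT hT1 (W := LinearMap.range ev) ?_).resolve_left ?_
    · rintro _ ⟨f, rfl⟩
      refine ⟨X * f, ?_⟩
      rw [hev, hev, map_mul, aeval_X]
      rfl
    · intro h
      have h2 : ev 1 ∈ LinearMap.range ev := ⟨1, rfl⟩
      rw [h, Submodule.mem_bot, hev, map_one] at h2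
      exact hv h2
  obtain ⟨f, hf⟩ : S v ∈ LinearMap.range ev := by rw [h1]; exact Submodule.mem_top
  rw [hev] at hf
  refine ⟨f, ?_⟩
  have hcomm : (S - aeval T f) * T = T * (S - aeval T f) := by
    rw [sub_mul, mul_sub, hS]
    congr 1
    have : aeval T f * aeval T (X : K[X]) = aeval T (X : K[X]) * aeval T f := by rw [← map_mul, ← map_mul, mul_comm]
    rwa [aeval_X] at this
  rcases ker_cases hr hrq hn hprim hT hT1 hcomm with h | h
  · exfalso
    have h2 : v ∈ LinearMap.ker (S - aeval T f) := by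
      rw [LinearMap.mem_ker, LinearMap.sub_apply, hf, sub_self]
    rw [h, Submodule.mem_bot] at h2
    exact hv h2
  · exact sub_eq_zero.1 h

omit [FiniteDimensional K V] in
theorem frob (T : Module.End K V) (f : K[X]) (k : ℕ) : aeval T f ^ (Nat.card K ^ k) = aeval (T ^ (Nat.card K ^ k)) f := by
  let _ := Fintype.ofFinite K
  induction k with
  | zero => rw [pow_zero, pow_one, pow_one]
  | succ k ih =>
    rw [pow_succ, pow_mul, ih, pow_mul, ← map_pow, Nat.card_eq_fintype_card (α := K), ← FiniteField.expand_card,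
      expand_aeval]

end lin

section form

variable {K : Type u} [Field K] [Finite K] {V : Type v} [AddCommGroup V] [Module K V] [FiniteDimensional K V]
  (F : CForm K V)

/-- as an endomorphism -/
def en (g : F.iso) : Module.End K V := (g : V ≃ₗ[K] V).toLinearMap

theorem en_mul (g h : F.iso) : en F (g * h) = en F g * en F h := rfl

theorem en_one : en F (1 : F.iso) = 1 := rfl

theorem en_pow (g : F.iso) (n : ℕ) : en F (g ^ n) = en F g ^ n := by
  induction n with
  | zero => rw [pow_zero, pow_zero, en_one]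
  | succ n ih => rw [pow_succ, pow_succ, en_mul, ih]

theorem en_injective : Function.Injective (en F) := by
  intro g h hgh
  apply Subtype.ext
  ext v
  exact LinearMap.congr_fun hgh v

/-- the adjoint of a polynomial in `x` -/
theorem adj (hσ : ∀ a, F.σ a = a) (x : F.iso) (f : K[X]) (u w : V) :
    F.B (aeval (en F x) f u) w = F.B u (aeval (en F x⁻¹) f w) := by
  induction f using Polynomial.induction_on' with
  | add f g hf hg =>
    rw [map_add, map_add, LinearMap.add_apply, LinearMap.add_apply, F.B_add_left, F.B_add_right, hf, hg]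
  | monomial n a =>
    rw [aeval_monomial, aeval_monomial]
    change F.B ((algebraMap K (Module.End K V) a * en F x ^ n) u) w = F.B u ((algebraMap K (Module.End K V) a * en F x⁻¹ ^ n) w)
    rw [← en_pow, ← en_pow]
    change F.B (a • (en F (x ^ n) u)) w = F.B u (a • (en F (x⁻¹ ^ n) w))
    rw [F.B_smul_left, F.B_smul_right, hσ]
    congr 1
    have h1 : F.B (((x⁻¹ ^ n : F.iso) : V ≃ₗ[K] V) (((x ^ n : F.iso) : V ≃ₗ[K] V) u)) (((x⁻¹ ^ n : F.iso) : V ≃ₗ[K] V) w) =
        F.B (((x ^ n : F.iso) : V ≃ₗ[K] V) u) w := F.iso_B (x⁻¹ ^ n) _ _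
    have h2 : ((x⁻¹ ^ n : F.iso) : V ≃ₗ[K] V) (((x ^ n : F.iso) : V ≃ₗ[K] V) u) = u := by
      have h3 : (x⁻¹ ^ n : F.iso) * x ^ n = 1 := by rw [inv_pow, inv_mul_cancel]
      have h4 := congrArg (fun g : F.iso => (g : V ≃ₗ[K] V) u) h3
      exact h4
    rw [h2] at h1
    exact h1.symm

variable {r m : ℕ} (hr : r.Prime) (hrq : r ∣ Nat.card K ^ m + 1) (hm : 0 < m) (hn : finrank K V = 2 * m)
  (hprim : ∀ i, 0 < i → i < 2 * m → ¬ r ∣ Nat.card K ^ i - 1) {x : F.iso} (hx : x ^ r = 1) (hx1 : x ≠ 1)

include hrq hm hr in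
theorem not_dvd_q : ¬ r ∣ Nat.card K := by
  intro h
  have h1 : r ∣ Nat.card K ^ m := dvd_pow h hm.ne'
  exact hr.one_lt.ne' (Nat.dvd_one.1 ((Nat.dvd_add_right h1).1 hrq))

include hr hrq hm hn hprim hx hx1 in
/-- **the centralizer of `x` among the isometries** -/
theorem cent_pow (hσ : ∀ a, F.σ a = a) {g : F.iso} (hg : g * x = x * g) : g ^ (Nat.card K ^ m + 1) = 1 := by
  have hT : en F x ^ r = 1 := by rw [← en_pow, hx, en_one]
  have hT1 : en F x ≠ 1 := fun h => hx1 (en_injective F (h.trans (en_one F).symm))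
  obtain ⟨f, hf⟩ := exists_poly hr (not_dvd_q hr hrq hm) hn hprim hT hT1 (S := en F g) (by rw [← en_mul, hg, en_mul])
  -- `x^(q^m) = x⁻¹`
  have hinv : x ^ (Nat.card K ^ m) = x⁻¹ := by
    obtain ⟨t, ht⟩ := hrq
    have : x ^ (Nat.card K ^ m + 1) = 1 := by rw [ht, pow_mul, hx, one_pow]
    rw [pow_succ] at this
    exact eq_inv_of_mul_eq_one_left this
  have h1 : en F g ^ (Nat.card K ^ m) = aeval (en F x⁻¹) f := by
    rw [hf, frob, ← en_pow, hinv]
  have h2 : aeval (en F x⁻¹) f * en F g = 1 := by
    ext w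
    have h3 : ∀ u, F.B u ((aeval (en F x⁻¹) f) (en F g w)) = F.B u w := by
      intro u
      rw [← adj F hσ, ← hf]
      exact F.iso_B g u w
    have h4 : (aeval (en F x⁻¹) f) (en F g w) - w = 0 := by
      refine F.nondeg _ fun u => F.B_eq_zero ?_
      rw [F.B_sub_right, h3, sub_self]
    exact sub_eq_zero.1 h4
  apply en_injective F
  rw [pow_succ, en_mul, en_pow, h1, h2, en_one]

include hr hrq hm hn hprim hx hx1 in
/-- an involution commuting with `x` is `-1` -/
theorem cent_neg {t : F.iso} (ht : t * x = x * t) (ht2 : t * t = 1) (ht1 : t ≠ 1) (v : V) :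
    (t : V ≃ₗ[K] V) v = -v := by
  have hT : en F x ^ r = 1 := by rw [← en_pow, hx, en_one]
  have hT1 : en F x ≠ 1 := fun h => hx1 (en_injective F (h.trans (en_one F).symm))
  have hcomm : (en F t - 1) * en F x = en F x * (en F t - 1) := by
    rw [sub_mul, mul_sub, ← en_mul, ht, en_mul, one_mul, mul_one]
  rcases ker_cases hr (not_dvd_q hr hrq hm) hn hprim hT hT1 hcomm with h | h
  · have h1 : (en F t - 1) (en F t v + v) = 0 := by
      have h2 : en F t (en F t v) = v := by
        have := congrArg (fun g : F.iso => (g : V ≃ₗ[K] V) v) ht2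
        exact this
      rw [LinearMap.sub_apply, map_add, h2]
      change v + en F t v - (en F t v + v) = 0
      abel
    have h2 : en F t v + v ∈ LinearMap.ker (en F t - 1) := h1
    rw [h, Submodule.mem_bot] at h2
    exact eq_neg_of_add_eq_zero_left h2
  · exact absurd (en_injective F ((sub_eq_zero.1 h).trans (en_one F).symm)) ht1

end form

end Cfsg.Agent.H234.Eight.Singer
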